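import Mathlib
import Cfsg.Prelude.Def_SylowControl

/-!
# Control of Sylow intersections: members, steps and chains
-/

set_option autoImplicit false

namespace Cfsg.Agent.Lib.SylowControl

open Cfsg Subgroup

variable {G : Type*} [Group G] {p : ℕ}

theorem mem_subgroupConjRight {g x : G} {X : Subgroup G} :
    x ∈ subgroupConjRight g X ↔ g * x * g⁻¹ ∈ X := by
  constructor
  · rintro ⟨y, hy, rfl⟩
    simpa [mul_assoc] using hy
  · intro h
    exact ⟨g * x * g⁻¹, h, by simp [mul_assoc]⟩

theorem subgroupConjRight_mul (a b : G) (X : Subgroup G) :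
    subgroupConjRight b (subgroupConjRight a X) = subgroupConjRight (a * b) X := by
  ext x
  simp only [mem_subgroupConjRight, mul_inv_rev, mul_assoc]

@[simp] theorem subgroupConjRight_one (X : Subgroup G) : subgroupConjRight 1 X = X := by
  ext x
  simp [mem_subgroupConjRight]

theorem subgroupConjRight_eq_self_iff {g : G} {X : Subgroup G} :
    subgroupConjRight g X = X ↔ g ∈ normalizer (X : Set G) := by
  rw [SetLike.ext_iff, mem_normalizer_iff]
  exact forall_congr' fun x => by rw [mem_subgroupConjRight]; exact Iff.comm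

theorem subgroupConjRight_mono {g : G} {X Y : Subgroup G} (h : X ≤ Y) :
    subgroupConjRight g X ≤ subgroupConjRight g Y :=
  map_mono h

theorem subgroupConjRight_inv_le {g : G} {X Y : Subgroup G} (h : X ≤ subgroupConjRight g Y) :
    subgroupConjRight g⁻¹ X ≤ Y := by
  have := subgroupConjRight_mono (g := g⁻¹) h
  rwa [subgroupConjRight_mul, mul_inv_cancel, subgroupConjRight_one] at this

theorem subset_conjRight {g : G} {A : Set G} {X : Subgroup G} (h : A ⊆ (X : Set G)) :
    conjRight g A ⊆ (subgroupConjRight g X : Set G) := by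
  rintro _ ⟨a, ha, rfl⟩
  exact mem_subgroupConjRight.mpr (by simpa [mul_assoc] using h ha)

/-- A right conjugate of a Sylow subgroup, as a Sylow subgroup. -/
noncomputable def sylowConjRight (g : G) (S : Sylow p G) : Sylow p G :=
  MulAut.conj g⁻¹ • S

theorem sylowConjRight_coe (g : G) (S : Sylow p G) :
    (sylowConjRight g S : Subgroup G) = subgroupConjRight g (S : Subgroup G) := rfl

theorem sylowConjRight_mul (a b : G) (S : Sylow p G) :
    sylowConjRight b (sylowConjRight a S) = sylowConjRight (a * b) S :=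
  Sylow.ext (subgroupConjRight_mul a b S)

theorem exists_sylowConjRight_eq [Finite G] [Fact p.Prime] (S T : Sylow p G) :
    ∃ g : G, sylowConjRight g S = T := by
  obtain ⟨g, hg⟩ := MulAction.exists_smul_eq G S T
  refine ⟨g⁻¹, ?_⟩
  rw [← hg, sylowConjRight, inv_inv]
  rfl

/-- Membership in `𝓕(S)` for a `p`-group `S`, by indices. -/
theorem mem_sylowMembers_iff [Finite G] [Fact p.Prime] {𝓕 : Set (Subgroup G)} {S X : Subgroup G}
    (hS : IsPGroup p S) : X ∈ sylowMembers p 𝓕 S ↔ X ∈ 𝓕 ∧ ¬ p ∣ S.relIndex X := by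
  refine and_congr_right fun _ => ⟨?_, fun h => ?_⟩
  · rintro ⟨P, hP⟩
    have h1 : (P : Subgroup X) = S.subgroupOf X := by
      rw [← comap_map_eq_self_of_injective X.subtype_injective (P : Subgroup X), hP]
      exact inf_subgroupOf_right S X
    rw [relIndex, ← h1]
    exact P.not_dvd_index
  · refine ⟨(hS.comap_of_injective X.subtype X.subtype_injective).toSylow h, ?_⟩
    show (S.subgroupOf X).map X.subtype = S ⊓ X
    exact subgroupOf_map_subtype S X

theorem sylowMembers_conjRight [Finite G] [Fact p.Prime] {𝓕 : Set (Subgroup G)}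
    (h𝓕 : IsNormalSet 𝓕) {S X : Subgroup G} (hS : IsPGroup p S)
    (h : X ∈ sylowMembers p 𝓕 S) (g : G) :
    subgroupConjRight g X ∈ sylowMembers p 𝓕 (subgroupConjRight g S) := by
  rw [mem_sylowMembers_iff hS] at h
  rw [mem_sylowMembers_iff (S := subgroupConjRight g S) (hS.map _)]
  refine ⟨h𝓕 X h.1 g, ?_⟩
  rw [subgroupConjRight, subgroupConjRight,
    relIndex_map_map_of_injective _ _ (MulAut.conj g⁻¹).injective]
  exact h.2

/-- A member containing a Sylow subgroup of `G` lies in its family `𝓕(S)`. -/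
theorem mem_sylowMembers_of_le [Finite G] [Fact p.Prime] {𝓕 : Set (Subgroup G)} (S : Sylow p G)
    {X : Subgroup G} (hX : X ∈ 𝓕) (hle : (S : Subgroup G) ≤ X) :
    X ∈ sylowMembers p 𝓕 (S : Subgroup G) :=
  (mem_sylowMembers_iff S.isPGroup').mpr
    ⟨hX, fun h => S.not_dvd_index (h.trans (relIndex_dvd_index_of_le hle))⟩

/-- One link of a chain above `D`. -/
def Step (p : ℕ) (𝓕 : Set (Subgroup G)) (D : Subgroup G) (c c' : Sylow p G) : Prop :=
  ∃ X : Subgroup G, ∃ x ∈ X, X ∈ sylowMembers p 𝓕 (c : Subgroup G) ∧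
    X ∈ sylowMembers p 𝓕 (c' : Subgroup G) ∧
    subgroupConjRight x (c' : Subgroup G) = (c : Subgroup G) ∧
    D ≤ (c : Subgroup G) ⊓ X ∧ D ≤ (c' : Subgroup G) ⊓ X

/-- Two Sylow subgroups are linked above `D`. -/
def Linked (p : ℕ) (𝓕 : Set (Subgroup G)) (D : Subgroup G) (c c' : Sylow p G) : Prop :=
  Relation.ReflTransGen (Step p 𝓕 D) c c'

theorem Step.symm {𝓕 : Set (Subgroup G)} {D : Subgroup G} {c c' : Sylow p G}
    (h : Step p 𝓕 D c c') : Step p 𝓕 D c' c := by
  obtain ⟨X, x, hx, h1, h2, h3, h4, h5⟩ := h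
  refine ⟨X, x⁻¹, inv_mem hx, h2, h1, ?_, h5, h4⟩
  rw [← h3, subgroupConjRight_mul, mul_inv_cancel, subgroupConjRight_one]

theorem Linked.symm {𝓕 : Set (Subgroup G)} {D : Subgroup G} {c c' : Sylow p G}
    (h : Linked p 𝓕 D c c') : Linked p 𝓕 D c' c := by
  induction h with
  | refl => exact .refl
  | tail _ h2 ih => exact ih.head h2.symm

theorem Step.mono {𝓕 𝓕' : Set (Subgroup G)} {D D' : Subgroup G} {c c' : Sylow p G}
    (hD : D' ≤ D) (h𝓕 : 𝓕 ⊆ 𝓕') (h : Step p 𝓕 D c c') : Step p 𝓕' D' c c' := by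
  obtain ⟨X, x, hx, h1, h2, h3, h4, h5⟩ := h
  exact ⟨X, x, hx, ⟨h𝓕 h1.1, h1.2⟩, ⟨h𝓕 h2.1, h2.2⟩, h3, hD.trans h4, hD.trans h5⟩

theorem Linked.mono {𝓕 𝓕' : Set (Subgroup G)} {D D' : Subgroup G} {c c' : Sylow p G}
    (hD : D' ≤ D) (h𝓕 : 𝓕 ⊆ 𝓕') (h : Linked p 𝓕 D c c') : Linked p 𝓕' D' c c' :=
  Relation.ReflTransGen.mono (fun _ _ => Step.mono hD h𝓕) c c' h

theorem Linked.le_right {𝓕 : Set (Subgroup G)} {D : Subgroup G} {c c' : Sylow p G}
    (hD : D ≤ c) (h : Linked p 𝓕 D c c') : D ≤ c' := by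
  rcases Relation.ReflTransGen.cases_tail h with rfl | ⟨b, -, X, x, -, -, -, -, -, h5⟩
  · exact hD
  · exact h5.trans inf_le_left

theorem linked_of_controls {𝓕 : Set (Subgroup G)} (h : ControlsSylowIntersections p 𝓕)
    {S T : Sylow p G} {D : Subgroup G} (hS : D ≤ S) (hT : D ≤ T) (hD : D ≠ ⊥) :
    Linked p 𝓕 D S T := by
  by_cases hne : S = T
  · subst hne; exact .refl
  obtain ⟨n, c, X, x, hc0, hcl, hstep⟩ := h S T hne fun h0 => hD (le_bot_iff.mp (h0 ▸ le_inf hS hT))
  have key : ∀ i : Fin (n + 1), Linked p 𝓕 D S (c i) ∧ D ≤ (c i : Subgroup G) := by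
    intro i
    induction i using Fin.induction with
    | zero => rw [hc0]; exact ⟨.refl, hS⟩
    | succ i ih =>
      obtain ⟨h1, h2, h3, h4, h5⟩ := hstep i
      have h6 := (le_inf hS hT).trans h5
      exact ⟨ih.1.tail ⟨X i, x i, h3, h1, h2, h4, le_inf ih.2 (h6.trans inf_le_right), h6⟩,
        h6.trans inf_le_left⟩
  exact hcl ▸ (key (Fin.last n)).1

theorem exists_chain {𝓕 : Set (Subgroup G)} {D : Subgroup G} {S T : Sylow p G}
    (h : Linked p 𝓕 D S T) :
    ∃ (n : ℕ) (c : Fin (n + 1) → Sylow p G) (X : Fin n → Subgroup G) (x : Fin n → G),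
      c 0 = S ∧ c (Fin.last n) = T ∧
      ∀ i : Fin n,
        X i ∈ sylowMembers p 𝓕 (c i.castSucc : Subgroup G) ∧
        X i ∈ sylowMembers p 𝓕 (c i.succ : Subgroup G) ∧
        x i ∈ X i ∧ subgroupConjRight (x i) (c i.succ : Subgroup G) = (c i.castSucc : Subgroup G) ∧
        D ≤ (c i.succ : Subgroup G) ⊓ X i := by
  induction h with
  | refl => exact ⟨0, fun _ => S, Fin.elim0, Fin.elim0, rfl, rfl, fun i => i.elim0⟩
  | tail _ hstep ih =>
    rename_i b U _
    obtain ⟨n, c, X, x, hc0, hcl, hi⟩ := ih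
    obtain ⟨Y, y, hy, h1, h2, h3, -, h5⟩ := hstep
    refine ⟨n + 1, Fin.snoc c U, Fin.snoc X Y, Fin.snoc x y, ?_, Fin.snoc_last _ _, ?_⟩
    · rw [← Fin.castSucc_zero, Fin.snoc_castSucc]; exact hc0
    · intro i
      induction i using Fin.lastCases with
      | last =>
        simp only [Fin.snoc_last, Fin.snoc_castSucc, Fin.succ_last, hcl]
        exact ⟨h1, h2, hy, h3, h5⟩
      | cast i =>
        simp only [Fin.snoc_castSucc, Fin.succ_castSucc]
        exact hi i

theorem controls_of_linked {𝓕 : Set (Subgroup G)}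
    (h : ∀ S T : Sylow p G, S ≠ T → (S : Subgroup G) ⊓ T ≠ ⊥ →
      Linked p 𝓕 ((S : Subgroup G) ⊓ T) S T) :
    ControlsSylowIntersections p 𝓕 := fun S T hne hint => exists_chain (h S T hne hint)

/-- Following a chain from `S` to `T`: a factorisation of an element conjugating `T` to `S`. -/
theorem exists_factor [Finite G] [Fact p.Prime] {𝓕 : Set (Subgroup G)} (h𝓕 : IsNormalSet 𝓕)
    {D : Subgroup G} {S T : Sylow p G} (h : Linked p 𝓕 D S T) :
    ∃ l : List (Subgroup G × G), subgroupConjRight (l.map Prod.snd).prod (T : Subgroup G) = S ∧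
      (∀ q ∈ l, q.1 ∈ sylowMembers p 𝓕 (S : Subgroup G) ∧ q.2 ∈ q.1) ∧
      ∀ i, (hi : i < l.length) →
        subgroupConjRight ((l.map Prod.snd).take (i + 1)).prod D ≤ (S : Subgroup G) ⊓ (l[i]).1 := by
  induction h with
  | refl => exact ⟨[], by simp, by simp, fun i hi => absurd hi (by simp)⟩
  | tail _ hstep ih =>
    rename_i b U _
    obtain ⟨l, hl1, hl2, hl3⟩ := ih
    obtain ⟨X, x, hx, h1, -, h3, -, h5⟩ := hstep
    set w := (l.map Prod.snd).prod with hw
    have hxX : subgroupConjRight x X = X := subgroupConjRight_eq_self_iff.mpr (le_normalizer hx)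
    refine ⟨l ++ [(subgroupConjRight w X, w⁻¹ * x * w)], ?_, ?_, ?_⟩
    · rw [List.map_append, List.prod_append, ← hw]
      simp only [List.map_cons, List.map_nil, List.prod_cons, List.prod_nil, mul_one]
      rw [mul_assoc, mul_inv_cancel_left, ← subgroupConjRight_mul, h3, hl1]
    · intro q hq
      rcases List.mem_append.mp hq with hq | hq
      · exact hl2 q hq
      · rw [List.mem_singleton] at hq
        subst hq
        refine ⟨hl1 ▸ sylowMembers_conjRight h𝓕 b.isPGroup' h1 w, ?_⟩
        exact mem_subgroupConjRight.mpr (by simpa [mul_assoc] using hx)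
    · intro i hi
      rcases lt_or_eq_of_le (Nat.lt_succ_iff.mp (by simpa using hi)) with hlt | heq
      · rw [List.getElem_append_left hlt, List.map_append,
          List.take_append_of_le_length (by simpa using hlt)]
        exact hl3 i hlt
      · subst heq
        rw [List.getElem_append_right le_rfl, List.take_of_length_le (by simp), List.map_append,
          List.prod_append, ← hw]
        simp only [List.map_cons, List.map_nil, List.prod_cons, List.prod_nil, mul_one,
          Nat.sub_self, List.getElem_cons_zero]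
        rw [mul_assoc, mul_inv_cancel_left, ← subgroupConjRight_mul x w]
        have h6 := subgroupConjRight_mono (g := w) (subgroupConjRight_mono (g := x) h5)
        refine le_inf (h6.trans ((subgroupConjRight_mono (subgroupConjRight_mono inf_le_left)).trans
          ?_)) (h6.trans ((subgroupConjRight_mono (subgroupConjRight_mono inf_le_right)).trans ?_))
        · rw [h3, hl1]
        · rw [hxX]

theorem prod_mem_of_list {H : Subgroup G} (l : List (Subgroup G × G))
    (h : ∀ q ∈ l, q.1 ≤ H ∧ q.2 ∈ q.1) : (l.map Prod.snd).prod ∈ H :=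
  list_prod_mem fun y hy => by
    obtain ⟨q, hq, rfl⟩ := List.mem_map.mp hy
    exact (h q hq).1 (h q hq).2

/-- Control of Sylow intersections gives strong control of fusion. -/
theorem strongly_controls_fusion_of_controls [Finite G] [Fact p.Prime] {𝓕 : Set (Subgroup G)}
    (h𝓕 : IsNormalSet 𝓕) (h : ControlsSylowIntersections p 𝓕) :
    FamilyStronglyControlsFusion p 𝓕 := by
  intro S A g hA hne hg
  set T := sylowConjRight g⁻¹ S with hT
  have hAT : A ⊆ ((T : Subgroup G) : Set G) := by
    intro a ha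
    exact mem_subgroupConjRight.mpr (by
      rw [inv_inv]; exact hg ⟨a, ha, rfl⟩)
  set D := (S : Subgroup G) ⊓ T with hD
  have hAD : A ⊆ (D : Set G) := fun a ha => ⟨hA ha, hAT ha⟩
  have hD1 : D ≠ ⊥ := by
    obtain ⟨a, ha, ha1⟩ := hne
    intro h0
    exact ha1 (mem_bot.mp (h0 ▸ hAD ha))
  obtain ⟨l, hl1, hl2, hl3⟩ :=
    exists_factor h𝓕 (linked_of_controls h (inf_le_left : D ≤ S) inf_le_right hD1)
  set w := (l.map Prod.snd).prod with hw
  have hofn : List.ofFn (fun i : Fin l.length => (l[i]).2) = l.map Prod.snd := by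
    rw [← List.ofFn_getElem_eq_map]
    rfl
  refine ⟨l.length, fun i => (l[i]).1, fun i => (l[i]).2, w⁻¹ * g, ?_,
    fun i => hl2 _ (List.getElem_mem _), ?_, fun i => ?_⟩
  · rw [← subgroupConjRight_eq_self_iff]
    conv_lhs => rw [← hl1]
    rw [subgroupConjRight_mul, mul_inv_cancel_left, hT, sylowConjRight_coe, subgroupConjRight_mul,
      inv_mul_cancel, subgroupConjRight_one]
  · rw [hofn, ← hw, mul_inv_cancel_left]
  · rw [hofn]
    intro z hz
    exact hl3 i.1 i.2 (subset_conjRight hAD hz)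

/-- Strong control of fusion gives control of Sylow intersections. -/
theorem controls_of_strongly_controls_fusion [Finite G] [Fact p.Prime] {𝓕 : Set (Subgroup G)}
    (h𝓕 : IsNormalSet 𝓕) (h : FamilyStronglyControlsFusion p 𝓕) :
    ControlsSylowIntersections p 𝓕 := by
  refine controls_of_linked fun S T _ hint => ?_
  set D := (S : Subgroup G) ⊓ T with hD
  obtain ⟨g, hg⟩ := exists_sylowConjRight_eq T S
  obtain ⟨a, ha, ha1⟩ := (ne_bot_iff_exists_ne_one.mp hint : ∃ a : D, a ≠ 1) |> fun ⟨a, ha⟩ =>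
    (⟨a.1, a.2, fun h1 => ha (Subtype.ext h1)⟩ : ∃ a ∈ D, a ≠ 1)
  obtain ⟨n, Y, y, y₀, hy₀, hY, hprod, hpart⟩ := h S (D : Set G) g (fun x hx => hx.1)
    ⟨a, ha, ha1⟩ (fun z hz => by
      rw [SetLike.mem_coe, ← hg]
      exact subset_conjRight (X := (T : Subgroup G)) (fun x hx => hx.2) hz)
  let P : ℕ → G := fun k => ((List.ofFn y).take k).prod
  have hPs : ∀ i : Fin n, P (i.1 + 1) = P i.1 * y i := fun i => by
    simp only [P]
    rw [List.prod_take_succ _ i.1 (by simp)]
    simp
  let c : ℕ → Sylow p G := fun k => sylowConjRight (P k)⁻¹ S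
  have hlink : ∀ k, k ≤ n → Linked p 𝓕 D S (c k) ∧ D ≤ (c k : Subgroup G) := by
    intro k
    induction k with
    | zero =>
      intro _
      have : c 0 = S := Sylow.ext (by simp [c, P, sylowConjRight_coe])
      rw [this]
      exact ⟨.refl, inf_le_left⟩
    | succ k ih =>
      intro hk
      obtain ⟨ih1, ih2⟩ := ih (by omega)
      set i : Fin n := ⟨k, by omega⟩
      have hP1 : P (k + 1) = P k * y i := hPs i
      have hm := hY i
      have hX1 := sylowMembers_conjRight h𝓕 S.isPGroup' hm.1 (P k)⁻¹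
      have hYy : subgroupConjRight (y i)⁻¹ (Y i) = Y i :=
        subgroupConjRight_eq_self_iff.mpr (le_normalizer (inv_mem hm.2))
      have hXeq : subgroupConjRight (P (k + 1))⁻¹ (Y i) = subgroupConjRight (P k)⁻¹ (Y i) := by
        rw [hP1, mul_inv_rev, ← subgroupConjRight_mul, hYy]
      have hDle : D ≤ (c (k + 1) : Subgroup G) ⊓ subgroupConjRight (P k)⁻¹ (Y i) := by
        rw [← hXeq]
        intro d hd
        have h2 := hpart i ⟨d, hd, rfl⟩
        exact ⟨mem_subgroupConjRight.mpr (by rw [inv_inv]; exact h2.1),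
          mem_subgroupConjRight.mpr (by rw [inv_inv]; exact h2.2)⟩
      refine ⟨ih1.tail ⟨_, P k * y i * (P k)⁻¹, ?_, hX1, ?_, ?_,
        le_inf ih2 (hDle.trans inf_le_right), hDle⟩, hDle.trans inf_le_left⟩
      · exact mem_subgroupConjRight.mpr (by simpa [mul_assoc] using hm.2)
      · rw [← hXeq]
        exact sylowMembers_conjRight h𝓕 S.isPGroup' hm.1 (P (k + 1))⁻¹
      · simp only [c, sylowConjRight_coe, subgroupConjRight_mul, hP1]
        congr 1
        group
  have hfin : c n = T := by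
    apply Sylow.ext
    have hPn : P n = g * y₀⁻¹ := by
      simp only [P]
      rw [List.take_of_length_le (by simp), hprod, mul_inv_cancel_right]
    rw [show (c n : Subgroup G) = subgroupConjRight (P n)⁻¹ S from rfl, hPn, mul_inv_rev, inv_inv,
      ← subgroupConjRight_mul, subgroupConjRight_eq_self_iff.mpr hy₀, ← hg, sylowConjRight_coe,
      subgroupConjRight_mul, mul_inv_cancel, subgroupConjRight_one]
  exact hfin ▸ (hlink n le_rfl).1

end Cfsg.Agent.Lib.SylowControl
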