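import Cfsg.Agent.Lib.SylowControl.Basic
import Cfsg.Prelude.Def_SylowChains

/-!
# Regular subgroups for a normalizer-respecting assignment
-/

set_option autoImplicit false

namespace Cfsg.Agent.Lib.SylowControl

open Cfsg Subgroup

variable {G : Type*} [Group G] {p : ℕ}

/-- In a `p`-group, a proper subgroup has a larger normalizer. -/
theorem lt_inf_normalizer_of_lt [Finite G] [Fact p.Prime] {Q S : Subgroup G} (hS : IsPGroup p S)
    (h : Q < S) : Q < S ⊓ normalizer (Q : Set G) := by
  have := hS.isNilpotent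
  refine lt_of_le_of_ne (le_inf h.le le_normalizer) fun heq => ?_
  have hlt : Q.subgroupOf S < ⊤ :=
    lt_top_iff_ne_top.mpr fun h' => h.not_ge (subgroupOf_eq_top.mp h')
  obtain ⟨u, hu, hu'⟩ := SetLike.exists_of_lt (Group.normalizerCondition_of_isNilpotent _ hlt)
  apply hu'
  show (u : G) ∈ Q
  rw [heq]
  refine ⟨u.2, mem_normalizer_iff.mpr fun y => ⟨fun hy => ?_, fun hy => ?_⟩⟩
  · exact (mem_normalizer_iff.mp hu ⟨y, h.le hy⟩).mp hy
  · have hyS : y ∈ S := by
      have := S.mul_mem (S.mul_mem (S.inv_mem u.2) (h.le hy)) u.2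
      simpa [mul_assoc] using this
    exact (mem_normalizer_iff.mp hu ⟨y, hyS⟩).mpr hy

theorem subgroupConjRight_normalizer (g : G) (F : Subgroup G) :
    subgroupConjRight g (normalizer (F : Set G)) =
      normalizer ((subgroupConjRight g F : Subgroup G) : Set G) := by
  ext x
  rw [mem_subgroupConjRight, ← subgroupConjRight_eq_self_iff, ← subgroupConjRight_eq_self_iff,
    subgroupConjRight_mul]
  constructor
  · intro h
    have h2 := congrArg (subgroupConjRight g) h
    rwa [subgroupConjRight_mul, show g * x * g⁻¹ * g = g * x by group] at h2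
  · intro h
    have h2 := congrArg (subgroupConjRight g⁻¹) h
    rwa [subgroupConjRight_mul, subgroupConjRight_mul, mul_inv_cancel, subgroupConjRight_one] at h2

theorem mem_functorFamily_top {f : Subgroup G → Set (Subgroup G)} (S : Sylow p G) {F : Subgroup G}
    (hF : F ∈ f (S : Subgroup G)) :
    normalizer (F : Set G) ∈ functorFamily p f ⊤ := by
  refine ⟨S.subtype le_top, F, ?_, (top_inf_eq _).symm⟩
  rwa [show ((S.subtype le_top : Sylow p (⊤ : Subgroup G)) : Subgroup (⊤ : Subgroup G)).map
    (⊤ : Subgroup G).subtype = (S : Subgroup G) from map_subgroupOf_eq_of_le le_top]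

/-- A `p`-subgroup of the order of a Sylow subgroup is one. -/
theorem exists_sylow_of_card_eq [Finite G] [Fact p.Prime] {P : Subgroup G} (hP : IsPGroup p P)
    (S : Sylow p G) (h : Nat.card P = Nat.card S) : ∃ T : Sylow p G, (T : Subgroup G) = P := by
  obtain ⟨T, hT⟩ := hP.exists_le_sylow
  refine ⟨T, (eq_of_le_of_card_ge hT ?_).symm⟩
  rw [h]
  exact (Nat.card_congr (Sylow.equiv S T).toEquiv).ge

theorem isNormalSet_functorFamily_top [Finite G] [Fact p.Prime] {f : Subgroup G → Set (Subgroup G)}
    (hf : IsNormalizerFunctor p f) : IsNormalSet (functorFamily p f (⊤ : Subgroup G)) := by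
  rintro X ⟨P, F, hF, rfl⟩ g
  obtain ⟨R, hR⟩ : ∃ R : Sylow p G, (R : Subgroup G) = (P : Subgroup (⊤ : Subgroup G)).map
      (⊤ : Subgroup G).subtype :=
    exists_sylow_of_card_eq (P.2.map _) default (by
      rw [card_map_of_injective (Subgroup.subtype_injective _)]
      exact Nat.card_congr (Sylow.equiv P ((default : Sylow p G).subtype le_top)).toEquiv |>.trans
        (Nat.card_congr (subgroupOfEquivOfLe le_top).toEquiv))
  rw [← hR] at hF
  rw [top_inf_eq, subgroupConjRight_normalizer]
  refine mem_functorFamily_top (sylowConjRight g R) ?_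
  rw [sylowConjRight_coe]
  show _ ∈ f ((R : Subgroup G).map (MulAut.conj g⁻¹).toMonoidHom)
  rw [(hf _ R.2).2 g⁻¹]
  exact ⟨F, hF, rfl⟩

theorem Step.conjRight [Finite G] [Fact p.Prime] {𝓕 : Set (Subgroup G)} (h𝓕 : IsNormalSet 𝓕)
    {D : Subgroup G} {c c' : Sylow p G} (h : Step p 𝓕 D c c') (g : G) :
    Step p 𝓕 (subgroupConjRight g D) (sylowConjRight g c) (sylowConjRight g c') := by
  obtain ⟨X, x, hx, h1, h2, h3, h4, h5⟩ := h
  refine ⟨subgroupConjRight g X, g⁻¹ * x * g, mem_subgroupConjRight.mpr (by simpa [mul_assoc] using hx),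
    sylowMembers_conjRight h𝓕 c.2 h1 g, sylowMembers_conjRight h𝓕 c'.2 h2 g, ?_, ?_, ?_⟩
  · rw [sylowConjRight_coe, sylowConjRight_coe, ← h3, subgroupConjRight_mul, subgroupConjRight_mul]
    congr 1
    group
  · exact le_inf (subgroupConjRight_mono (h4.trans inf_le_left))
      (subgroupConjRight_mono (h4.trans inf_le_right))
  · exact le_inf (subgroupConjRight_mono (h5.trans inf_le_left))
      (subgroupConjRight_mono (h5.trans inf_le_right))

theorem Linked.conjRight [Finite G] [Fact p.Prime] {𝓕 : Set (Subgroup G)} (h𝓕 : IsNormalSet 𝓕)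
    {D : Subgroup G} {c c' : Sylow p G} (h : Linked p 𝓕 D c c') (g : G) :
    Linked p 𝓕 (subgroupConjRight g D) (sylowConjRight g c) (sylowConjRight g c') := by
  induction h with
  | refl => exact .refl
  | tail _ h2 ih => exact ih.tail (h2.conjRight h𝓕 g)

/-- What a step inside a regular subgroup `M` says in the ambient group. -/
theorem step_data [Finite G] [Fact p.Prime] {f : Subgroup G → Set (Subgroup G)}
    (hf : IsNormalizerFunctor p f) {M : Subgroup G} {D : Subgroup M} {c c' : Sylow p M}
    (h : Step p ((fun X : Subgroup G => X.subgroupOf M) '' functorFamily p f M) D c c') :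
    ∃ P : Sylow p M, ∃ F ∈ f ((P : Subgroup M).map M.subtype),
      ∃ x ∈ M ⊓ normalizer (F : Set G),
        subgroupConjRight x ((c' : Subgroup M).map M.subtype) = (c : Subgroup M).map M.subtype ∧
        (c : Subgroup M).map M.subtype ≤ M ⊓ normalizer (F : Set G) ∧
        (c' : Subgroup M).map M.subtype ≤ M ⊓ normalizer (F : Set G) := by
  obtain ⟨X, x, hx, h1, h2, h3, -, -⟩ := h
  obtain ⟨⟨X₀, ⟨P, F, hF, rfl⟩, rfl⟩, -⟩ := h1.imp id id
  refine ⟨P, F, hF, x, hx, ?_, ?_⟩
  · ext y
    constructor
    · intro hy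
      obtain ⟨z, hz, hzy⟩ := mem_subgroupConjRight.mp hy
      refine ⟨x⁻¹ * z * x, h3.le (mem_subgroupConjRight.mpr (by
        have e : x * (x⁻¹ * z * x) * x⁻¹ = z := by group
        rw [e]; exact hz)), ?_⟩
      show (x : G)⁻¹ * z * x = y
      rw [show (z : G) = (x : G) * y * (x : G)⁻¹ from hzy]
      group
    · rintro ⟨z, hz, rfl⟩
      exact mem_subgroupConjRight.mpr ⟨x * z * x⁻¹, mem_subgroupConjRight.mp (h3.ge hz), rfl⟩
  have hPF : (P : Subgroup M) ≤ (M ⊓ normalizer (F : Set G)).subgroupOf M := fun y hy =>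
    ⟨y.2, ((hf _ (P.2.map M.subtype)).1 F hF).2 (le_normalizer ⟨y, hy, rfl⟩)⟩
  have key : ∀ d : Sylow p M, (M ⊓ normalizer (F : Set G)).subgroupOf M ∈
      sylowMembers p ((fun X : Subgroup G => X.subgroupOf M) '' functorFamily p f M) (d : Subgroup M) →
      (d : Subgroup M).map M.subtype ≤ M ⊓ normalizer (F : Set G) := by
    intro d hd
    set X := (M ⊓ normalizer (F : Set G)).subgroupOf M with hX
    clear_value X
    obtain ⟨-, R, hR⟩ := hd
    have hc1 : Nat.card (P.subtype hPF) = Nat.card (P : Subgroup M) :=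
      Nat.card_congr (subgroupOfEquivOfLe hPF).toEquiv
    have hc2 : Nat.card ((d : Subgroup M) ⊓ X : Subgroup M) = Nat.card R := by
      rw [← hR, card_map_of_injective X.subtype_injective]
    have hle : (d : Subgroup M) ≤ X := by
      refine inf_eq_left.mp (eq_of_le_of_card_ge inf_le_left ?_)
      rw [hc2, Nat.card_congr (Sylow.equiv R (P.subtype hPF)).toEquiv, hc1]
      exact (Nat.card_congr (Sylow.equiv d P).toEquiv).le
    rintro _ ⟨y, hy, rfl⟩
    exact (hX.le (hle hy) : _)
  exact ⟨key c h1, key c' h2⟩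

/-- Inside a regular subgroup containing a Sylow subgroup of `G`, Sylow subgroups of `G` are linked. -/
theorem linked_of_regular [Finite G] [Fact p.Prime] {f : Subgroup G → Set (Subgroup G)}
    (hf : IsNormalizerFunctor p f) {M : Subgroup G} (hM : IsFunctorRegular p f M)
    {S T : Sylow p G} (hS : (S : Subgroup G) ≤ M) (hT : (T : Subgroup G) ≤ M) {D : Subgroup G}
    (hDS : D ≤ S) (hDT : D ≤ T) (hD : D ≠ ⊥) : Linked p (functorFamily p f ⊤) D S T := by
  have hD' : D.subgroupOf M ≠ ⊥ := by
    rw [Ne, subgroupOf_eq_bot, disjoint_iff, inf_eq_left.mpr (hDS.trans hS)]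
    exact hD
  have h := linked_of_controls hM (S := S.subtype hS) (T := T.subtype hT) (D := D.subgroupOf M)
    (comap_mono hDS) (comap_mono hDT) hD'
  have hcard : ∀ d : Sylow p M, ∃ R : Sylow p G, (R : Subgroup G) = (d : Subgroup M).map M.subtype :=
    fun d => exists_sylow_of_card_eq (d.2.map _) S (by
      rw [card_map_of_injective M.subtype_injective]
      exact (Nat.card_congr (Sylow.equiv d (S.subtype hS)).toEquiv).trans
        (Nat.card_congr (subgroupOfEquivOfLe hS).toEquiv))
  suffices key : ∀ d : Sylow p M, Linked p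
      ((fun X : Subgroup G => X.subgroupOf M) '' functorFamily p f M) (D.subgroupOf M)
      (S.subtype hS) d →
      ∀ R : Sylow p G, (R : Subgroup G) = (d : Subgroup M).map M.subtype →
        Linked p (functorFamily p f ⊤) D S R by
    exact key _ h T (map_subgroupOf_eq_of_le hT).symm
  intro d hd
  induction hd with
  | refl =>
    intro R hR
    rw [show R = S from Sylow.ext (hR.trans (map_subgroupOf_eq_of_le hS))]
    exact .refl
  | tail hb hstep ih =>
    rename_i b d
    intro R hR
    obtain ⟨R₀, hR₀⟩ := hcard b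
    have hDle : ∀ e : Sylow p M, Linked p
        ((fun X : Subgroup G => X.subgroupOf M) '' functorFamily p f M) (D.subgroupOf M)
        (S.subtype hS) e → D ≤ (e : Subgroup M).map M.subtype := by
      intro e he x hx
      exact ⟨⟨x, hS (hDS hx)⟩, Linked.le_right (comap_mono hDS) he hx, rfl⟩
    obtain ⟨P, F, hF, x, hx, h3, h4, h5⟩ := step_data hf hstep
    obtain ⟨RP, hRP⟩ := hcard P
    rw [← hRP] at hF
    rw [← hR₀] at h3 h4
    rw [← hR] at h3 h5
    refine (ih R₀ hR₀).tail ⟨normalizer (F : Set G), x, hx.2,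
      mem_sylowMembers_of_le R₀ (mem_functorFamily_top RP hF) (h4.trans inf_le_right),
      mem_sylowMembers_of_le R (mem_functorFamily_top RP hF) (h5.trans inf_le_right), h3,
      le_inf (hR₀ ▸ hDle b hb) ?_, le_inf (hR ▸ hDle d (hb.tail hstep)) ?_⟩
    · exact (hR₀ ▸ hDle b hb).trans (h4.trans inf_le_right)
    · exact (hR ▸ hDle d (hb.tail hstep)).trans (h5.trans inf_le_right)

/-- Control in `G` is regularity of `⊤`. -/
theorem isFunctorRegular_top_of_linked [Finite G] [Fact p.Prime]
    {f : Subgroup G → Set (Subgroup G)}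
    (h : ∀ S T : Sylow p G, S ≠ T → (S : Subgroup G) ⊓ T ≠ ⊥ →
      Linked p (functorFamily p f ⊤) ((S : Subgroup G) ⊓ T) S T) :
    IsFunctorRegular p f (⊤ : Subgroup G) := by
  apply controls_of_linked
  intro S T hne hint
  let e : (⊤ : Subgroup G) →* G := (⊤ : Subgroup G).subtype
  have hcard : ∀ d : Sylow p (⊤ : Subgroup G), ∃ R : Sylow p G,
      (R : Subgroup G) = (d : Subgroup (⊤ : Subgroup G)).map e := fun d =>
    exists_sylow_of_card_eq (d.2.map _) default (by
      rw [card_map_of_injective (Subgroup.subtype_injective _)]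
      exact (Nat.card_congr (Sylow.equiv d ((default : Sylow p G).subtype le_top)).toEquiv).trans
        (Nat.card_congr (subgroupOfEquivOfLe le_top).toEquiv))
  obtain ⟨S', hS'⟩ := hcard S
  obtain ⟨T', hT'⟩ := hcard T
  have hinf : (S' : Subgroup G) ⊓ T' =
      ((S : Subgroup (⊤ : Subgroup G)) ⊓ T).map e := by
    rw [hS', hT', ← Subgroup.map_inf _ _ e (Subgroup.subtype_injective _)]
  have hback : ∀ (d : Sylow p (⊤ : Subgroup G)) (R : Sylow p G),
      (R : Subgroup G) = (d : Subgroup (⊤ : Subgroup G)).map e → R.subtype le_top = d := by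
    intro d R hR
    apply Sylow.ext
    show (R : Subgroup G).subgroupOf ⊤ = d
    rw [hR]
    exact comap_map_eq_self_of_injective (Subgroup.subtype_injective _) _
  have hl := h S' T' (fun h' => hne (by rw [← hback S S' hS', ← hback T T' hT', h']))
    (by rw [hinf, Ne, map_eq_bot_iff_of_injective _ (Subgroup.subtype_injective _)]; exact hint)
  suffices key : ∀ R : Sylow p G, Linked p (functorFamily p f ⊤) ((S' : Subgroup G) ⊓ T') S' R →
      Linked p ((fun X : Subgroup G => X.subgroupOf ⊤) '' functorFamily p f ⊤)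
        ((S : Subgroup (⊤ : Subgroup G)) ⊓ T) S (R.subtype le_top) by
    have h' := key T' hl
    rwa [hback T T' hT'] at h'
  intro R hR
  induction hR with
  | refl => rw [hback S S' hS']; exact .refl
  | tail _ hstep ih =>
    rename_i b d _
    obtain ⟨X, x, hx, h1, h2, h3, h4, h5⟩ := hstep
    rw [hinf] at h4 h5
    refine ih.tail ⟨X.subgroupOf ⊤, ⟨x, trivial⟩, hx, ?_, ?_, ?_, ?_, ?_⟩
    · rw [mem_sylowMembers_iff (Sylow.isPGroup' _)]
      exact ⟨⟨X, h1.1, rfl⟩, by
        show ¬ p ∣ ((b : Subgroup G).subgroupOf ⊤).relIndex (X.subgroupOf ⊤)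
        rw [relIndex_subgroupOf le_top]
        exact ((mem_sylowMembers_iff b.2).mp h1).2⟩
    · rw [mem_sylowMembers_iff (Sylow.isPGroup' _)]
      exact ⟨⟨X, h2.1, rfl⟩, by
        show ¬ p ∣ ((d : Subgroup G).subgroupOf ⊤).relIndex (X.subgroupOf ⊤)
        rw [relIndex_subgroupOf le_top]
        exact ((mem_sylowMembers_iff d.2).mp h2).2⟩
    · ext y
      rw [mem_subgroupConjRight]
      show x * (y : G) * x⁻¹ ∈ (d : Subgroup G) ↔ (y : G) ∈ (b : Subgroup G)
      rw [← h3, mem_subgroupConjRight]
    · exact fun y hy => h4 ⟨y, hy, rfl⟩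
    · exact fun y hy => h5 ⟨y, hy, rfl⟩

/-- Normalizers and singular maximal locals control Sylow intersections. -/
theorem controls_functorFamily_union_singular [Finite G] [Fact p.Prime]
    {f : Subgroup G → Set (Subgroup G)} (hf : IsNormalizerFunctor p f)
    (hf1 : ∀ P : Subgroup G, IsPGroup p P → P ≠ ⊥ → ∀ F ∈ f P, F ≠ ⊥) :
    ControlsSylowIntersections p
      (functorFamily p f ⊤ ∪ {M | IsMaximalPLocal p M ∧ ¬ IsFunctorRegular p f M}) := by
  set 𝓕 := functorFamily p f ⊤ ∪ {M | IsMaximalPLocal p M ∧ ¬ IsFunctorRegular p f M} with h𝓕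
  suffices main : ∀ k : ℕ, ∀ S T : Sylow p G, (S : Subgroup G) ⊓ T ≠ ⊥ →
      Nat.card G - Nat.card ↥((S : Subgroup G) ⊓ T) = k →
      Linked p 𝓕 ((S : Subgroup G) ⊓ T) S T from
    controls_of_linked fun S T _ hint => main _ S T hint rfl
  intro k
  induction k using Nat.strong_induction_on with
  | _ k outer =>
  intro S T hint hk
  by_cases hne : S = T
  · subst hne; exact .refl
  set D := (S : Subgroup G) ⊓ T with hD
  have hDp : IsPGroup p D := S.2.to_le inf_le_left
  -- Sylow subgroups meeting above `D` are linked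
  have big : ∀ (A B : Sylow p G) (W : Subgroup G), W ≤ A → W ≤ B → D < W →
      Linked p 𝓕 D A B := by
    intro A B W hA hB hW
    have hlt : D < (A : Subgroup G) ⊓ B := hW.trans_le (le_inf hA hB)
    have hcle : Nat.card D < Nat.card ↥((A : Subgroup G) ⊓ B) :=
      Set.Finite.card_lt_card (Set.toFinite _) hlt
    have hb : Nat.card ↥((A : Subgroup G) ⊓ B) ≤ Nat.card G := card_le_card_group _
    exact (outer _ (by rw [← hk]; omega) A B (ne_bot_of_gt hlt) rfl).mono hlt.le (subset_refl _)
  -- the claim about two Sylow subgroups of a local subgroup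
  suffices claim : ∀ j : ℕ, ∀ (M : Subgroup G), IsPLocal p M → ∀ (U V : Sylow p M) (A B : Sylow p G),
      (U : Subgroup M).map M.subtype ≤ A → (V : Subgroup M).map M.subtype ≤ B →
      D ≤ (U : Subgroup M).map M.subtype → D ≤ (V : Subgroup M).map M.subtype →
      Nat.card D < Nat.card (U : Subgroup M) → Nat.card G - Nat.card (U : Subgroup M) = j →
      Linked p 𝓕 D A B by
    have hDS : D < (S : Subgroup G) := lt_of_le_of_ne inf_le_left fun h => hne (Sylow.ext
      (eq_of_le_of_card_ge (inf_eq_left.mp h) (Nat.card_congr (Sylow.equiv S T).toEquiv).ge))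
    have hDT : D < (T : Subgroup G) := lt_of_le_of_ne inf_le_right fun h => hne (Sylow.ext
      (eq_of_le_of_card_ge (inf_eq_right.mp h) (Nat.card_congr (Sylow.equiv S T).toEquiv).le).symm)
    set M := normalizer (D : Set G) with hM
    have hSM := lt_inf_normalizer_of_lt S.2 hDS
    have hTM := lt_inf_normalizer_of_lt T.2 hDT
    obtain ⟨U, hU⟩ := (S.2.comap_of_injective M.subtype M.subtype_injective).exists_le_sylow
    obtain ⟨V, hV⟩ := (T.2.comap_of_injective M.subtype M.subtype_injective).exists_le_sylow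
    obtain ⟨A, hA⟩ := (U.2.map M.subtype).exists_le_sylow
    obtain ⟨B, hB⟩ := (V.2.map M.subtype).exists_le_sylow
    have hUle : (S : Subgroup G) ⊓ M ≤ (U : Subgroup M).map M.subtype :=
      fun x hx => ⟨⟨x, hx.2⟩, hU hx.1, rfl⟩
    have hVle : (T : Subgroup G) ⊓ M ≤ (V : Subgroup M).map M.subtype :=
      fun x hx => ⟨⟨x, hx.2⟩, hV hx.1, rfl⟩
    have h1 := big S A _ inf_le_left (hUle.trans hA) hSM
    have h2 := big B T _ (hVle.trans hB) inf_le_left hTM
    refine (h1.trans (claim _ M ⟨D, hDp, hint, rfl⟩ U V A B hA hB (hSM.le.trans hUle)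
      (hTM.le.trans hVle) ?_ rfl)).trans h2
    rw [← card_map_of_injective M.subtype_injective (K := (U : Subgroup M))]
    exact Set.Finite.card_lt_card (Set.toFinite _) (hSM.trans_le hUle)
  intro j
  induction j using Nat.strong_induction_on with
  | _ j inner =>
  intro M hM U V A B hUA hVB hDU hDV hlt hj
  have big' : ∀ (M' : Subgroup G) (W : Sylow p M') (A B : Sylow p G),
      (W : Subgroup M').map M'.subtype ≤ A → (W : Subgroup M').map M'.subtype ≤ B →
      D ≤ (W : Subgroup M').map M'.subtype → Nat.card D < Nat.card (W : Subgroup M') →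
      Linked p 𝓕 D A B := fun M' W A B hA hB hDW hW =>
    big A B _ hA hB (lt_of_le_of_ne hDW fun h => absurd hW (by
      rw [← card_map_of_injective M'.subtype_injective (K := (W : Subgroup M')), ← h]
      exact lt_irrefl _))
  -- pass to a maximal local subgroup
  obtain ⟨M', ⟨hM'l, hMM'⟩, hmax⟩ := (Set.toFinite {N : Subgroup G | IsPLocal p N ∧ M ≤ N}).exists_maximal
    ⟨M, hM, le_rfl⟩
  have hM'max : IsMaximalPLocal p M' := ⟨hM'l, fun N hN hle =>
    le_antisymm (hmax ⟨hN, hMM'.trans hle⟩ hle) hle⟩
  obtain ⟨U', hU'⟩ := ((U.2.map M.subtype).comap_of_injective M'.subtype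
    M'.subtype_injective).exists_le_sylow
  obtain ⟨V', hV'⟩ := ((V.2.map M.subtype).comap_of_injective M'.subtype
    M'.subtype_injective).exists_le_sylow
  have hU'le : (U : Subgroup M).map M.subtype ≤ (U' : Subgroup M').map M'.subtype :=
    fun x hx => ⟨⟨x, hMM' (map_subtype_le _ hx)⟩, hU' hx, rfl⟩
  have hV'le : (V : Subgroup M).map M.subtype ≤ (V' : Subgroup M').map M'.subtype :=
    fun x hx => ⟨⟨x, hMM' (map_subtype_le _ hx)⟩, hV' hx, rfl⟩
  have hUV : Nat.card (U : Subgroup M) = Nat.card (V : Subgroup M) :=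
    Nat.card_congr (Sylow.equiv U V).toEquiv
  have hU'card : Nat.card (U : Subgroup M) ≤ Nat.card (U' : Subgroup M') := by
    rw [← card_map_of_injective M.subtype_injective (K := (U : Subgroup M)),
      ← card_map_of_injective M'.subtype_injective (K := (U' : Subgroup M'))]
    exact Nat.le_of_dvd Nat.card_pos (card_dvd_of_le hU'le)
  have hlt' : ∀ W : Sylow p M', Nat.card D < Nat.card (W : Subgroup M') := fun W => by
    rw [Nat.card_congr (Sylow.equiv W U').toEquiv]
    exact hlt.trans_le hU'card
  obtain ⟨A', hA'⟩ := (U'.2.map M'.subtype).exists_le_sylow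
  obtain ⟨B', hB'⟩ := (V'.2.map M'.subtype).exists_le_sylow
  refine ((big' M U A A' hUA (hU'le.trans hA') hDU hlt).trans ?_).trans
    (big' M V B' B (hV'le.trans hB') hVB hDV (hUV ▸ hlt))
  have hDU' := hDU.trans hU'le
  have hDV' := hDV.trans hV'le
  by_cases hreg : IsFunctorRegular p f M'
  · -- follow a chain inside `M'`
    have hD' : D.subgroupOf M' ≠ ⊥ := by
      rw [Ne, subgroupOf_eq_bot, disjoint_iff, inf_eq_left.mpr (hDU'.trans (map_subtype_le _))]
      exact hint
    have hsub : ∀ W : Sylow p M', D ≤ (W : Subgroup M').map M'.subtype →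
        D.subgroupOf M' ≤ (W : Subgroup M') := by
      intro W hW y hy
      obtain ⟨z, hz, hzy⟩ := hW hy
      rwa [← show z = y from Subtype.ext hzy]
    have h := linked_of_controls hreg (hsub U' hDU') (hsub V' hDV') hD'
    suffices key : ∀ d : Sylow p M', Linked p
        ((fun X : Subgroup G => X.subgroupOf M') '' functorFamily p f M') (D.subgroupOf M') U' d →
        ∀ R : Sylow p G, (d : Subgroup M').map M'.subtype ≤ R → Linked p 𝓕 D A' R from
      key V' h B' hB'
    intro d hd
    induction hd with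
    | refl => exact fun R hR => big' M' U' A' R hA' hR hDU' (hlt' U')
    | tail hb hstep ih =>
      rename_i b d
      intro R hR
      obtain ⟨R₀, hR₀⟩ := (b.2.map M'.subtype).exists_le_sylow
      refine (ih R₀ hR₀).trans ?_
      have hDb : D ≤ (b : Subgroup M').map M'.subtype := fun x hx =>
        ⟨⟨x, map_subtype_le _ (hDU' hx)⟩, Linked.le_right (hsub U' hDU') hb hx, rfl⟩
      have hDd : D ≤ (d : Subgroup M').map M'.subtype := fun x hx =>
        ⟨⟨x, map_subtype_le _ (hDU' hx)⟩, Linked.le_right (hsub U' hDU') (hb.tail hstep) hx, rfl⟩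
      obtain ⟨P, F, hF, x, hx, h3, h4, h5⟩ := step_data hf hstep
      set PG := (P : Subgroup M').map M'.subtype with hPG
      have hPp : IsPGroup p PG := P.2.map _
      obtain ⟨RP, hRP⟩ := hPp.exists_le_sylow
      have hcards : ∀ W : Sylow p M', Nat.card ((W : Subgroup M').map M'.subtype) = Nat.card PG :=
        fun W => by
          rw [hPG, card_map_of_injective M'.subtype_injective,
            card_map_of_injective M'.subtype_injective]
          exact Nat.card_congr (Sylow.equiv W P).toEquiv
      rcases hRP.eq_or_lt with heq | hltP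
      · -- `M'` contains a Sylow subgroup of `G`
        rw [heq] at hF
        have hfull : ∀ (W : Sylow p M') (R : Sylow p G), (W : Subgroup M').map M'.subtype ≤ R →
            (R : Subgroup G) = (W : Subgroup M').map M'.subtype := fun W R hWR =>
          (eq_of_le_of_card_ge hWR (by
            rw [hcards W, heq]
            exact (Nat.card_congr (Sylow.equiv RP R).toEquiv).ge)).symm
        have e0 := hfull b R₀ hR₀
        have e1 := hfull d R hR
        rw [← e0] at h3 h4 hDb
        rw [← e1] at h3 h5 hDd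
        exact Relation.ReflTransGen.single ⟨normalizer (F : Set G), x, hx.2,
          mem_sylowMembers_of_le R₀ (Or.inl (mem_functorFamily_top RP hF)) (h4.trans inf_le_right),
          mem_sylowMembers_of_le R (Or.inl (mem_functorFamily_top RP hF)) (h5.trans inf_le_right),
          h3, le_inf hDb (hDb.trans (h4.trans inf_le_right)),
          le_inf hDd (hDd.trans (h5.trans inf_le_right))⟩
      · -- otherwise pass to the local subgroup `N(F)`, with larger Sylow subgroups
        have hPne : PG ≠ ⊥ := by
          intro h0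
          have h6 := (hcards U').trans (by rw [h0, card_bot] : Nat.card PG = 1)
          rw [card_map_of_injective M'.subtype_injective] at h6
          have := hlt' U'
          have : 0 < Nat.card D := Nat.card_pos
          omega
        obtain ⟨hFP, hFn⟩ := (hf PG hPp).1 F hF
        set N := normalizer (F : Set G) with hN
        have hNl : IsPLocal p N := ⟨F, hPp.to_le hFP, hf1 PG hPp hPne F hF, rfl⟩
        obtain ⟨U'', hU''⟩ := ((b.2.map M'.subtype).comap_of_injective N.subtype
          N.subtype_injective).exists_le_sylow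
        obtain ⟨V'', hV''⟩ := ((d.2.map M'.subtype).comap_of_injective N.subtype
          N.subtype_injective).exists_le_sylow
        have hble : (b : Subgroup M').map M'.subtype ≤ (U'' : Subgroup N).map N.subtype :=
          fun y hy => ⟨⟨y, (h4 hy).2⟩, hU'' hy, rfl⟩
        have hdle : (d : Subgroup M').map M'.subtype ≤ (V'' : Subgroup N).map N.subtype :=
          fun y hy => ⟨⟨y, (h5 hy).2⟩, hV'' hy, rfl⟩
        have hbigger : Nat.card PG < Nat.card (U'' : Subgroup N) := by
          have hW := lt_inf_normalizer_of_lt RP.2 hltP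
          obtain ⟨W, hW'⟩ := ((RP.2.to_le
            (inf_le_left : (RP : Subgroup G) ⊓ normalizer (PG : Set G) ≤ RP)).comap_of_injective
            N.subtype N.subtype_injective).exists_le_sylow
          have h6 : (RP : Subgroup G) ⊓ normalizer (PG : Set G) ≤ (W : Subgroup N).map N.subtype :=
            fun y hy => ⟨⟨y, hFn hy.2⟩, hW' hy, rfl⟩
          rw [Nat.card_congr (Sylow.equiv U'' W).toEquiv,
            ← card_map_of_injective N.subtype_injective (K := (W : Subgroup N))]
          exact Set.Finite.card_lt_card (Set.toFinite _) (hW.trans_le h6)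
        have hPU' : Nat.card PG = Nat.card (U' : Subgroup M') := by
          rw [← hcards U', card_map_of_injective M'.subtype_injective]
        obtain ⟨A'', hA''⟩ := (U''.2.map N.subtype).exists_le_sylow
        obtain ⟨B'', hB''⟩ := (V''.2.map N.subtype).exists_le_sylow
        have hN_le : Nat.card (U'' : Subgroup N) ≤ Nat.card G :=
          (card_le_card_group (U'' : Subgroup N)).trans (card_le_card_group N)
        refine ((big' M' b R₀ A'' hR₀ (hble.trans hA'') hDb (hlt' b)).trans ?_).trans
          (big' M' d B'' R (hdle.trans hB'') hR hDd (hlt' d))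
        exact inner _ (by rw [← hj]; omega) N hNl U'' V'' A'' B'' hA'' hB'' (hDb.trans hble)
          (hDd.trans hdle) ((hlt' U').trans (hPU' ▸ hbigger)) rfl
  · -- `M'` is a singular maximal local subgroup
    obtain ⟨m, hm⟩ := MulAction.exists_smul_eq M' V' U'
    have hmem : ∀ (W : Sylow p M') (R : Sylow p G), (W : Subgroup M').map M'.subtype ≤ R →
        M' ∈ sylowMembers p 𝓕 (R : Subgroup G) := by
      intro W R hW
      rw [mem_sylowMembers_iff R.2]
      refine ⟨Or.inr ⟨hM'max, hreg⟩, fun hdvd => W.not_dvd_index (hdvd.trans ?_)⟩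
      exact index_dvd_of_le fun y hy => hW ⟨y, hy, rfl⟩
    set B'' := sylowConjRight (m : G) A' with hB''
    have hVB'' : (V' : Subgroup M').map M'.subtype ≤ B'' := by
      rintro _ ⟨y, hy, rfl⟩
      refine mem_subgroupConjRight.mpr (hA' ?_)
      exact ⟨m * y * m⁻¹, hm.le ⟨y, hy, rfl⟩, rfl⟩
    refine Relation.ReflTransGen.trans ?_
      (big' M' V' B'' B' hVB'' hB' hDV' (hlt' V'))
    exact Relation.ReflTransGen.single ⟨M', (m : G)⁻¹, inv_mem m.2, hmem U' A' hA',
      hmem V' B'' hVB'', by
        rw [hB'', sylowConjRight_coe, subgroupConjRight_mul, mul_inv_cancel, subgroupConjRight_one],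
      le_inf (hDU'.trans hA') (hDU'.trans (map_subtype_le _)),
      le_inf (hDV'.trans hVB'') (hDV'.trans (map_subtype_le _))⟩

end Cfsg.Agent.Lib.SylowControl
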